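import Mathlib.RingTheory.Henselian
import Mathlib.RingTheory.LocalRing.ResidueField.Basic
import Mathlib.FieldTheory.IsAlgClosed.Basic
import Mathlib.FieldTheory.IsSepClosed
import Mathlib.FieldTheory.Perfect
import Mathlib.RingTheory.IntegralClosure.IntegralRestrict
import Mathlib.RingTheory.IntegralClosure.IsIntegralClosure.Basic

/-!
# An algebraically closed coefficient field in a strictly henselian ring of residue characteristic zero

`exists_coeffField`: a henselian local domain with separably closed residue field of characteristic zero contains an
algebraically closed field (the integral closure of `ℚ`).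
-/

set_option autoImplicit false

open IsLocalRing Polynomial

universe u

namespace Groth.Agent.Sga7.H431.CoeffField

section

variable (V : Type u) [CommRing V]

theorem isUnit_intCast [IsLocalRing V] [CharZero (ResidueField V)] (n : ℤ) (hn : n ≠ 0) : IsUnit (n : V) := by
  rw [← isUnit_map_iff (residue V), map_intCast]
  exact (Int.cast_ne_zero.2 hn).isUnit

/-- The ring homomorphism from `ℚ`. -/
noncomputable def ratHom [IsLocalRing V] [CharZero (ResidueField V)] : ℚ →+* V :=
  IsLocalization.lift (M := nonZeroDivisors ℤ) (g := Int.castRingHom V) fun y => by
    exact isUnit_intCast V _ (nonZeroDivisors.coe_ne_zero y)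

variable [IsDomain V] [HenselianLocalRing V] [IsSepClosed (ResidueField V)]

/-- An algebra over a field `F` of characteristic zero: the integral closure is algebraically closed. -/
theorem exists_isAlgClosed (F : Type) [Field F] [CharZero F] [Algebra F V] :
    ∃ (k : Type u) (_ : Field k) (_ : IsAlgClosed k) (_ : CharZero k), Nonempty (k →+* V) := by
  have hfield : IsField (integralClosure F V) :=
    isField_of_isIntegral_of_isField' (R := F) (Field.toIsField F)
  let : Field (integralClosure F V) := hfield.toField
  have hF : CharZero (integralClosure F V) := charZero_of_injective_algebraMap (algebraMap F (integralClosure F V)).injective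
  refine ⟨integralClosure F V, inferInstance, ?_, hF, ⟨algebraMap (integralClosure F V) V⟩⟩
  refine IsAlgClosed.of_exists_root _ fun p hp hirr => ?_
  have hsep : p.Separable := hirr.separable
  -- a root in the residue field
  let φ : integralClosure F V →+* ResidueField V := (residue V).comp (algebraMap (integralClosure F V) V)
  have hsep' : (p.map φ).Separable := hsep.map
  obtain ⟨a₀, ha₀⟩ := IsSepClosed.exists_root (p.map φ) (by rw [degree_map]; exact (degree_pos_of_irreducible hirr).ne') hsep'
  obtain ⟨a, rfl⟩ := residue_surjective a₀
  let P : V[X] := p.map (algebraMap (integralClosure F V) V)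
  have hP : P.Monic := hp.map _
  have hPφ : P.map (residue V) = p.map φ := by rw [Polynomial.map_map]
  have h1 : P.eval a ∈ maximalIdeal V := by
    rw [← residue_eq_zero_iff, ← Polynomial.eval_map_apply, hPφ]
    exact ha₀
  have h2 : IsUnit (P.derivative.eval a) := by
    rw [← isUnit_map_iff (residue V), ← Polynomial.eval_map_apply, ← derivative_map, hPφ]
    have := hsep'.eval₂_derivative_ne_zero (RingHom.id _) (x := residue V a) (by simpa [eval₂_id] using ha₀)
    rw [isUnit_iff_ne_zero]
    simpa [eval₂_id] using this
  obtain ⟨r, hr, -⟩ := HenselianLocalRing.is_henselian P hP a h1 h2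
  have hr' : P.eval r = 0 := hr
  have hint : IsIntegral (integralClosure F V) r := by
    refine ⟨p, hp, ?_⟩
    rw [eval₂_eq_eval_map]
    exact hr'
  have hint' : IsIntegral F r := isIntegral_trans r hint
  refine ⟨⟨r, hint'⟩, ?_⟩
  have hinj : Function.Injective (algebraMap (integralClosure F V) V) := Subtype.val_injective
  apply hinj
  rw [map_zero, ← Polynomial.eval_map_apply]
  exact hr'

end

/-- **An algebraically closed coefficient field** inside a strictly henselian domain of residue characteristic zero. -/
theorem exists_coeffField (V : Type u) [CommRing V] [IsDomain V] [HenselianLocalRing V]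
    [IsSepClosed (ResidueField V)] [CharZero (ResidueField V)] :
    ∃ (k : Type u) (_ : Field k) (_ : IsAlgClosed k) (_ : CharZero k), Nonempty (k →+* V) := by
  let : Algebra ℚ V := (ratHom V).toAlgebra
  exact exists_isAlgClosed V ℚ

end Groth.Agent.Sga7.H431.CoeffField
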